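import Cfsg.Agent.H60.SULow.MonoKill
import Cfsg.Agent.H60.SULow.FrameTwo
import Cfsg.Agent.H60.SULow.Wreath
import Cfsg.Agent.H3.UMonomial

set_option autoImplicit false
set_option linter.unusedSectionVars false

/-!
# The monomial subgroup of `SU` is maximal from dimension ten

The arguments of `H3/UMono*` with the row killing replaced by `exists_killing_ten`.
-/

namespace Cfsg.Agent.H60.SULow

open scoped Matrix Classical
open Cfsg.Agent.H98 Cfsg.Agent.H3

variable {F : Type*} [Field F] [Fintype F] {q n t k : ℕ}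

local notation "Mat" => Matrix (Fin n) (Fin n) F
local notation "h" => Cfsg.hermForm n F q
local notation "G₁" => Cfsg.GU n F q ⊓ Cfsg.Geo.specialLinear (Fin n) F

variable (hF : Fintype.card F = q ^ 2)
include hF

section Spread

variable {M : Subgroup (GL (Fin n) F)} (hMK : M ≤ Cfsg.GU n F q ⊓ Cfsg.Geo.specialLinear (Fin n) F) (hdiag : HasDiag q M) (hspread : Spreading M)
include hMK hdiag hspread

/-- Every row of a mixed element has at most one zero. -/
theorem one_zero_row_low (hn : 9 ≤ n) {g : GL (Fin n) F} (hg : g ∈ M) (hgm : ¬ IsMonom g) {c d d' : Fin n}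
    (hd : ((g : Mat) *ᵥ Pi.single d 1) c = 0) (hd' : ((g : Mat) *ᵥ Pi.single d' 1) c = 0) : d = d' := by
  classical
  by_contra hdd
  have hgU : g ∈ Cfsg.GU n F q := (hMK hg).1
  have hgI : ∀ a b, h ((g : Mat) *ᵥ a) ((g : Mat) *ᵥ b) = h a b := hgU
  have hq0 : q ≠ 0 := by have := two_le_q hF; omega
  let S : Finset (Fin n) := Finset.univ.filter fun l => ((g : Mat) *ᵥ Pi.single d 1) l ≠ 0
  obtain ⟨h4, hsub⟩ := two_zeros_row hF hMK hdiag hspread hg hgm hdd hd hd'
  obtain ⟨-, hsub'⟩ := two_zeros_row hF hMK hdiag hspread hg hgm (Ne.symm hdd) hd' hd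
  have hout : ∀ l, l ∉ S → ((g : Mat) *ᵥ Pi.single d 1) l = 0 := fun l hl => by
    by_contra h'
    exact hl (Finset.mem_filter.mpr ⟨Finset.mem_univ _, h'⟩)
  obtain ⟨c₁, -, hc₁⟩ := Finset.exists_mem_notMem_of_card_lt_card (s := S) (t := Finset.univ)
    (lt_of_le_of_lt h4 (by simp; omega))
  obtain ⟨c₂, -, hc₂⟩ := Finset.exists_mem_notMem_of_card_lt_card (s := insert c₁ S) (t := Finset.univ)
    (lt_of_le_of_lt ((Finset.card_insert_le _ _).trans (Nat.add_le_add_right h4 1)) (by simp; omega))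
  rw [Finset.mem_insert, not_or] at hc₂
  -- the rows through `c₁`, `c₂` are small
  have hrow := (two_zeros_row hF hMK hdiag hspread (M.inv_mem hg) (fun h' => hgm (monom_inv h')) (c := d)
    (Ne.symm hc₂.1) (by rw [inv_entry hF hgU, hout _ hc₁, zero_pow hq0])
    (by rw [inv_entry hF hgU, hout _ hc₂.2, zero_pow hq0])).1
  let Z : Finset (Fin n) := Finset.univ.filter fun z => ((g : Mat) *ᵥ Pi.single z 1) c₁ = 0
  have hZ : n ≤ Z.card + 4 := by
    have h1 : (Finset.univ \ Z).card ≤ 4 := le_trans (Finset.card_le_card fun z hz => by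
      simp only [Finset.mem_sdiff, Finset.mem_univ, true_and, Z, Finset.mem_filter] at hz ⊢
      rw [inv_entry hF hgU]
      exact pow_ne_zero q hz) hrow
    rw [Finset.card_univ_diff, Fintype.card_fin] at h1
    omega
  have hZS : ∀ z ∈ Z, ∀ l, l ∉ S → ((g : Mat) *ᵥ Pi.single z 1) l = 0 := by
    intro z hz l hl
    by_cases hzd : z = d
    · rw [hzd]; exact hout l hl
    by_contra h'
    exact (two_zeros_row hF hMK hdiag hspread hg hgm hzd (Finset.mem_filter.mp hz).2 (hout c₁ hc₁)).2 l h'
      (hout l hl)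
  -- at most four orthonormal vectors live on four coordinates
  let A : Matrix Z S F := fun z s => ((g : Mat) *ᵥ Pi.single (z : Fin n) 1) s
  let B : Matrix S Z F := fun s z => ((g : Mat) *ᵥ Pi.single (z : Fin n) 1) s ^ q
  have hAB : A * B = 1 := by
    ext z z'
    rw [Matrix.mul_apply, Matrix.one_apply]
    change ∑ s : S, ((g : Mat) *ᵥ Pi.single (z : Fin n) 1) s * ((g : Mat) *ᵥ Pi.single (z' : Fin n) 1) s ^ q = _
    rw [Finset.univ_eq_attach, Finset.sum_attach S (fun s =>
      ((g : Mat) *ᵥ Pi.single (z : Fin n) 1) s * ((g : Mat) *ᵥ Pi.single (z' : Fin n) 1) s ^ q),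
      Finset.sum_subset (Finset.subset_univ S) fun l _ hl => by rw [hZS _ z.2 l hl, zero_mul]]
    change h ((g : Mat) *ᵥ Pi.single (z : Fin n) 1) ((g : Mat) *ᵥ Pi.single (z' : Fin n) 1) = _
    rw [hgI, herm_single_right hF, Pi.single_apply]
    exact if_congr ⟨fun e => Subtype.ext e.symm, fun e => by rw [e]⟩ rfl rfl
  have h1 := Matrix.rank_mul_le_left A B
  rw [hAB, Matrix.rank_one, Fintype.card_coe] at h1
  have h2 := A.rank_le_card_width
  rw [Fintype.card_coe] at h2
  have hS4 : S.card ≤ 4 := h4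
  omega

/-- Every column of a mixed element has at most one zero. -/
theorem one_zero_col_low (hn : 9 ≤ n) {g : GL (Fin n) F} (hg : g ∈ M) (hgm : ¬ IsMonom g) {c c' d : Fin n}
    (hc : ((g : Mat) *ᵥ Pi.single d 1) c = 0) (hc' : ((g : Mat) *ᵥ Pi.single d 1) c' = 0) : c = c' := by
  have hq0 : q ≠ 0 := by have := two_le_q hF; omega
  exact one_zero_row_low hF hMK hdiag hspread hn (M.inv_mem hg) (fun h' => hgm (monom_inv h'))
    (c := d) (by rw [inv_entry hF (hMK hg).1, hc, zero_pow hq0])
    (by rw [inv_entry hF (hMK hg).1, hc', zero_pow hq0])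

end Spread

variable {M : Subgroup (GL (Fin n) F)}

/-- Some mixed element has a zero entry. -/
theorem exists_zero_low (hn : 10 ≤ n) (hq : 3 ≤ q) (hMK : M ≤ G₁) (hdiag : HasDiag q M) {g : GL (Fin n) F}
    (hg : g ∈ M) (hgm : ¬ IsMonom g) :
    ∃ x ∈ M, ¬ IsMonom x ∧ ∃ c d, (((x : GL (Fin n) F) : Mat) *ᵥ Pi.single c 1) d = 0 := by
  by_cases hz : ∃ c d, ((g : Mat) *ᵥ Pi.single c 1) d = 0
  · exact ⟨g, hg, hgm, hz⟩
  push Not at hz
  let c : Fin n := ⟨0, by omega⟩
  haveI := Fintype.ofFinite (NOne F q)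
  obtain ⟨δ, hδ, hδp, h0, hwt⟩ := exists_killing_ten hF hn g (((g⁻¹ : GL (Fin n) F) : Mat) *ᵥ Pi.single c 1)
    (fun l => by rw [inv_entry hF (hMK hg).1]; exact pow_ne_zero q (hz l c)) c
    (fun l _ hl => absurd hl (hz l c))
  refine ⟨g * (guDiag (q := q) δ hδ).1 * g⁻¹, M.mul_mem (M.mul_mem hg (hdiag δ hδ hδp)) (M.inv_mem hg), ?_⟩
  have hcol : ((g * (guDiag (q := q) δ hδ).1 * g⁻¹ : GL (Fin n) F) : Mat) *ᵥ Pi.single c 1 =
      (g : Mat) *ᵥ (δ * (((g⁻¹ : GL (Fin n) F) : Mat) *ᵥ Pi.single c 1)) := by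
    rw [Units.val_mul, Units.val_mul, ← Matrix.mulVec_mulVec, ← Matrix.mulVec_mulVec]
    congr 1
    funext l
    simp [guDiag, Matrix.mulVec_diagonal]
  refine ⟨fun hmon => ?_, c, c, by rw [hcol]; exact h0⟩
  obtain ⟨i, j, hi, hj, hij⟩ := Finset.one_lt_card_iff.mp (lt_trans one_lt_two hwt)
  rw [Finset.mem_filter] at hi hj
  exact hij (hmon c i j (by rw [hcol]; exact hi.2) (by rw [hcol]; exact hj.2))

/-- In odd characteristic mixing is not total. -/
theorem not_spreading_odd_low (h2 : (2 : F) ≠ 0) (hn : 10 ≤ n) (hq : 3 ≤ q) (hMK : M ≤ G₁) (hdiag : HasDiag q M)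
    (hmono : ∀ m ∈ G₁, IsMonom m → m ∈ M) (hspread : Spreading M) {g : GL (Fin n) F} (hg : g ∈ M)
    (hgm : ¬ IsMonom g) : False := by
  have hq0 : q ≠ 0 := by omega
  obtain ⟨x, hx, hxm, c, d, hcd⟩ := exists_zero_low hF hn hq hMK hdiag hg hgm
  have hxU : ∀ a b, h ((x : Mat) *ᵥ a) ((x : Mat) *ᵥ b) = h a b := (hMK hx).1
  have hvl : ∀ l, l ≠ d → ((x : Mat) *ᵥ Pi.single c 1) l ≠ 0 := fun l hl h0 =>
    hl (one_zero_col_low hF hMK hdiag hspread (by omega) hx hxm h0 hcd)
  set r₂ := ((x⁻¹ : GL (Fin n) F) : Mat) *ᵥ Pi.single d 1 with hr₂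
  have hr₂c : r₂ c = 0 := by rw [hr₂, inv_entry hF (hMK hx).1, hcd, zero_pow hq0]
  have hr₂l : ∀ l, l ≠ c → r₂ l ≠ 0 := fun l hl h0 =>
    hl (one_zero_col_low hF hMK hdiag hspread (by omega) (M.inv_mem hx) (fun h' => hxm (monom_inv h')) h0 hr₂c)
  rcases le_or_gt n q with hnq | hnq
  · -- a scalar compensated at the zero
    obtain ⟨η, hη, hηn⟩ : ∃ η : F, η ^ (q + 1) = 1 ∧ η ^ n ≠ 1 := by
      by_contra hall
      push Not at hall
      have hle : (normOne q F).card ≤ (Polynomial.nthRootsFinset n (1 : F)).card :=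
        Finset.card_le_card fun a ha =>
          (Polynomial.mem_nthRootsFinset (by omega) _).mpr (hall a (mem_normOne.mp ha))
      have h1 : (Polynomial.nthRootsFinset n (1 : F)).card ≤ n := by
        rw [Polynomial.nthRootsFinset_def]
        exact (Multiset.toFinset_card_le _).trans (Polynomial.card_nthRoots _ _)
      rw [card_normOne hF] at hle
      omega
    have hηη := norm_one_conj hF hη
    set θ := (η ^ q) ^ n with hθ
    have hθn : θ ^ (q + 1) = 1 := by
      rw [hθ, ← pow_mul, ← pow_mul, show q * (n * (q + 1)) = (q + 1) * (q * n) by ring, pow_mul, hη, one_pow]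
    have hθθ : η ^ n * θ = 1 := by rw [hθ, ← mul_pow, hηη, one_pow]
    have hθ1 : θ ≠ 1 := fun h0 => hηn (by rwa [h0, mul_one] at hθθ)
    let δ : Fin n → F := fun l => η * if l = d then θ else 1
    have hδ : ∀ l, δ l ^ (q + 1) = 1 := fun l => by
      simp only [δ, mul_pow, hη, one_mul]
      split_ifs
      · exact hθn
      · exact one_pow _
    have hδp : ∏ l, δ l = 1 := by
      simp only [δ, Finset.prod_mul_distrib, Finset.prod_const, Finset.card_univ, Fintype.card_fin,
        Finset.prod_ite_eq', Finset.mem_univ, if_true]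
      exact hθθ
    set y := x⁻¹ * (guDiag (q := q) δ hδ).1 * x with hy
    have hyM : y ∈ M := M.mul_mem (M.mul_mem (M.inv_mem hx) (hdiag δ hδ hδp)) hx
    have hyv : ∀ v, (y : Mat) *ᵥ v = η • v + (η * (θ - 1) * ((x : Mat) *ᵥ v) d) • r₂ := by
      intro v
      rw [hy, Units.val_mul, Units.val_mul, ← Matrix.mulVec_mulVec, ← Matrix.mulVec_mulVec]
      have : ((guDiag (q := q) δ hδ).1 : Mat) *ᵥ ((x : Mat) *ᵥ v) =
          η • ((x : Mat) *ᵥ v) + (η * (θ - 1) * ((x : Mat) *ᵥ v) d) • Pi.single d 1 := by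
        funext l
        simp only [guDiag, Matrix.mulVec_diagonal, δ, Pi.add_apply, Pi.smul_apply, Pi.single_apply, smul_eq_mul]
        split_ifs with hl
        · subst hl; ring
        · ring
      rw [this, Matrix.mulVec_add, Matrix.mulVec_smul, Matrix.mulVec_smul, gl_inv_mulVec, hr₂]
    have hyc : (y : Mat) *ᵥ Pi.single c 1 = η • Pi.single c 1 := by rw [hyv, hcd, mul_zero, zero_smul, add_zero]
    have hmon := hspread y hyM c (by rw [hyc]; exact isAxis_smul_single η c)
    obtain ⟨i, -, hi⟩ := Finset.exists_mem_notMem_of_card_lt_card (s := ({c} : Finset (Fin n))) (t := Finset.univ)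
      (by simp; omega)
    obtain ⟨l, -, hl⟩ := Finset.exists_mem_notMem_of_card_lt_card (s := ({c, i} : Finset (Fin n))) (t := Finset.univ)
      (lt_of_le_of_lt Finset.card_le_two (by simp; omega))
    obtain ⟨l', -, hl'⟩ := Finset.exists_mem_notMem_of_card_lt_card (s := ({c, i, l} : Finset (Fin n)))
      (t := Finset.univ) (lt_of_le_of_lt Finset.card_le_three (by simp; omega))
    simp only [Finset.mem_insert, Finset.mem_singleton, not_or] at hi hl hl'
    have hxi : ((x : Mat) *ᵥ Pi.single i 1) d ≠ 0 := fun h0 => hr₂l i hi (by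
      rw [hr₂, inv_entry hF (hMK hx).1, h0, zero_pow hq0])
    have hne : ∀ o, o ≠ c → o ≠ i → ((y : Mat) *ᵥ Pi.single i 1) o ≠ 0 := fun o hoc hoi => by
      rw [hyv]
      simp only [Pi.add_apply, Pi.smul_apply, Pi.single_eq_of_ne hoi, smul_eq_mul, mul_zero, zero_add]
      exact mul_ne_zero (mul_ne_zero (mul_ne_zero (left_ne_zero_of_mul (by rw [hηη]; exact one_ne_zero))
        (sub_ne_zero.mpr hθ1)) hxi) (hr₂l o hoc)
    exact hl'.2.2 (hmon i l' l (hne l' hl'.1 hl'.2.1) (hne l hl.1 hl.2))
  · -- two coordinates of equal norm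
    set v := (x : Mat) *ᵥ Pi.single c 1 with hv
    obtain ⟨p, hp, r, hr, hpr, hN⟩ := Finset.exists_ne_map_eq_of_card_lt_of_maps_to
      (s := Finset.univ.erase d) (t := (Finset.univ.filter fun z : F => z ^ q = z).erase 0)
      (f := fun l => v l ^ (q + 1)) (by
        rw [Finset.card_erase_of_mem (by simp [zero_pow hq0]), Finset.card_erase_of_mem (Finset.mem_univ _),
          Finset.card_univ, Fintype.card_fin, ← Fintype.card_subtype, ← Nat.card_eq_fintype_card, card_fixed hF]
        omega)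
      (fun l hl => by
        rw [Finset.mem_coe, Finset.mem_erase] at hl ⊢
        exact ⟨pow_ne_zero _ (hvl l hl.1), Finset.mem_filter.mpr ⟨Finset.mem_univ _, norm_pow_q hF _⟩⟩)
    rw [Finset.mem_erase] at hp hr
    have hvp := hvl p hp.1
    set μ := v r / v p with hμdef
    have hμ : μ ^ (q + 1) = 1 := by rw [hμdef, div_pow, ← hN, div_self (pow_ne_zero _ hvp)]
    have hμμ := norm_one_conj hF hμ
    have hvr : v r = μ * v p := (div_mul_cancel₀ _ hvp).symm
    let s : Fin n → F := fun l => if l = p then μ ^ q else if l = r then μ else if l = d then -1 else 1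
    have hs : ∀ l, s l ^ (q + 1) = 1 := fun l => by
      simp only [s]
      split_ifs
      · rw [← pow_mul, mul_comm, pow_mul, hμ, one_pow]
      · exact hμ
      · rw [pow_succ, ← conjQ_apply hF, map_neg, map_one]; ring
      · exact one_pow _
    have hsp : ∏ l, s l = -1 := by
      have : ∀ l, s l = (if l = p then μ ^ q else 1) * ((if l = r then μ else 1) * if l = d then -1 else 1) := by
        intro l
        by_cases h1 : l = p
        · subst h1; simp [s, hpr, hp.1]
        by_cases h2 : l = r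
        · subst h2; simp [s, h1, hr.1]
        simp [s, h1, h2]
      simp only [this, Finset.prod_mul_distrib, Finset.prod_ite_eq', Finset.mem_univ, if_true]
      rw [← mul_assoc, mul_comm (μ ^ q) μ, hμμ, one_mul]
    obtain ⟨m, hm, hmv⟩ := exists_mono_of_prod hF (Equiv.swap p r) s hs (by
      rw [hsp, Equiv.Perm.sign_swap hpr]; norm_num)
    obtain ⟨γ, hγ⟩ := exists_norm_eq hF (μ := ((2 : F))⁻¹) (by
      rw [inv_pow, ← conjQ_apply hF (2 : F), map_ofNat])
    have hγγ : 2 * (γ * γ ^ q) = 1 := by rw [← pow_succ', hγ, mul_inv_cancel₀ h2]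
    set w : Fin n → F := γ • (Pi.single p 1 - μ • Pi.single r 1) with hw
    have hwv : ∀ u, h u w = γ ^ q * (u p - μ ^ q * u r) := fun u => by
      rw [hw, hermForm_smul_right hF, sub_eq_add_neg, ← neg_smul, hermForm_add_right hF, hermForm_smul_right hF,
        herm_single_right hF, herm_single_right hF, ← conjQ_apply hF (-μ), map_neg, conjQ_apply hF]
      ring
    have hform : ∀ u, (m : Mat) *ᵥ u = u + ((-2) * h u w) • w + ((-2) * h u (Pi.single d 1)) • Pi.single d 1 := by
      intro u
      rw [hmv, hwv, herm_single_right hF]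
      funext l
      by_cases h1 : l = p
      · subst h1
        simp [s, hw, hpr, hp.1]
        linear_combination (u l - μ ^ q * u r) * hγγ
      by_cases h2' : l = r
      · subst h2'
        simp [s, hw, h1, hr.1]
        linear_combination (μ * (-(u p) + μ ^ q * u l)) * hγγ + u l * hμμ
      have h3 : Equiv.swap p r l = l := Equiv.swap_apply_of_ne_of_ne h1 h2'
      by_cases h4 : l = d
      · subst h4
        simp [s, hw, h1, h2', h3]
        ring
      simp [s, hw, h1, h2', h3, h4]
    set y := x⁻¹ * m * x with hy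
    have hyM : y ∈ M := M.mul_mem (M.mul_mem (M.inv_mem hx) (hmono m hm (isMonom_of_mono hmv))) hx
    set r₁ := ((x⁻¹ : GL (Fin n) F) : Mat) *ᵥ w with hr₁
    have hinv : ∀ a b, h (((x⁻¹ : GL (Fin n) F) : Mat) *ᵥ a) (((x⁻¹ : GL (Fin n) F) : Mat) *ᵥ b) = h a b :=
      ((Cfsg.GU n F q).inv_mem (hMK hx).1)
    have hswitch : ∀ a b, h ((x : Mat) *ᵥ a) b = h a (((x⁻¹ : GL (Fin n) F) : Mat) *ᵥ b) := fun a b => by
      conv_rhs => rw [← hxU, gl_mulVec_inv]
    have hyv : ∀ u, (y : Mat) *ᵥ u = u + ((-2) * h u r₁) • r₁ + ((-2) * h u r₂) • r₂ := by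
      intro u
      rw [hy, Units.val_mul, Units.val_mul, ← Matrix.mulVec_mulVec, ← Matrix.mulVec_mulVec, hform,
        Matrix.mulVec_add, Matrix.mulVec_add, Matrix.mulVec_smul, Matrix.mulVec_smul, gl_inv_mulVec, hswitch, hswitch,
        hr₁, hr₂]
      simp only [hw, Matrix.mulVec_smul]
    have hyc : (y : Mat) *ᵥ Pi.single c 1 = Pi.single c 1 := by
      rw [hyv, hr₁, hr₂, ← hswitch, ← hswitch, ← hv, hwv, herm_single_right hF, hcd, hvr]
      have : v p - μ ^ q * (μ * v p) = 0 := by linear_combination (-(v p)) * hμμ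
      simp [this]
    have hmon := hspread y hyM c (by rw [hyc]; exact isAxis_single c)
    have h22 : (-2 : F) ≠ 0 := neg_ne_zero.mpr h2
    have hunit : h w w = 1 := by
      rw [hwv]
      simp [hw, hpr, hpr.symm]
      linear_combination hγγ + (γ * γ ^ q) * hμμ
    have hcard := rank_two_supp hF (r := r₁) (r' := r₂) (by rw [hr₁, hinv, hunit])
      (by rw [hr₂, hinv, herm_single_right hF, Pi.single_eq_same])
      (by rw [hr₁, hr₂, hinv, herm_single_right hF, hw]; simp [Ne.symm hp.1, Ne.symm hr.1]) h22 h22 hyv hmon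
    have hsub : (Finset.univ.erase c) ⊆ Finset.univ.filter fun l => r₁ l ≠ 0 ∨ r₂ l ≠ 0 := fun l hl =>
      Finset.mem_filter.mpr ⟨Finset.mem_univ _, Or.inr (hr₂l l (Finset.mem_erase.mp hl).1)⟩
    have := Finset.card_le_card hsub
    rw [Finset.card_erase_of_mem (Finset.mem_univ _), Finset.card_univ, Fintype.card_fin] at this
    omega

/-- In characteristic two mixing is not total. -/
theorem not_spreading_even_low (h2 : (2 : F) = 0) (hn : 10 ≤ n) (hq : 3 ≤ q) (hMK : M ≤ G₁) (hdiag : HasDiag q M)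
    (hmono : ∀ m ∈ G₁, IsMonom m → m ∈ M) (hspread : Spreading M) {g : GL (Fin n) F} (hg : g ∈ M)
    (hgm : ¬ IsMonom g) : False := by
  have hq0 : q ≠ 0 := by omega
  haveI : CharP F 2 := by
    refine CharTwo.of_one_ne_zero_of_two_eq_zero one_ne_zero h2
  have hf := Herm.isUnitary_std (n := n) hF
  have hone : Herm.frobQ hF (1 : F) = -1 := by rw [map_one]; linear_combination h2
  -- a centre without zeros
  let i₁ : Fin n := ⟨0, by omega⟩
  let j₁ : Fin n := ⟨1, by omega⟩
  have hij : i₁ ≠ j₁ := fun e => by simpa [i₁, j₁] using congrArg Fin.val e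
  have hbase : ∀ ν : F, ν ^ (q + 1) = 1 → IsOneCentre hF M (Pi.single i₁ 1 + ν • Pi.single j₁ 1 : Fin n → F) := by
    intro ν hν
    have hνν := norm_one_conj hF hν
    set u : Fin n → F := Pi.single i₁ 1 + ν • Pi.single j₁ 1 with hu
    have huu : h u u = 0 := by
      simp [hu, hermForm_add_left hF, hermForm_add_right hF, hermForm_smul_left hF, hermForm_smul_right hF,
        hermForm_single_left, hij, hij.symm, zero_pow hq0, hνν]
      linear_combination h2
    refine ⟨huu, hmono _ (Herm.uT_mem_su hF huu hone) fun k => ?_⟩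
    have hTv : (Herm.uT hf huu 1 : Mat) *ᵥ Pi.single k 1 = Pi.single k 1 + u k ^ q • u := by
      rw [Herm.uT_mulVec, hermForm_single_left, one_mul, one_mul]
    rw [hTv]
    by_cases h1 : k = i₁
    · subst h1
      convert isAxis_smul_single ν j₁ using 1
      funext o
      simp [hu, hij, Pi.single_apply]
      split_ifs <;> first | ring1 | linear_combination h2 | linear_combination ν * h2
    by_cases h1' : k = j₁
    · subst h1'
      convert isAxis_smul_single (ν ^ q) i₁ using 1
      funext o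
      simp [hu, hij.symm, Pi.single_apply]
      by_cases ho : o = i₁
      · subst ho; simp [hij]
      · by_cases ho' : o = j₁
        · subst ho'; simp [hij.symm]; linear_combination hνν + h2
        · simp [ho, ho']
    have : u k = 0 := by simp [hu, h1, h1']
    rw [this, zero_pow hq0, zero_smul, add_zero]
    exact isAxis_single k
  obtain ⟨z, hz, hzf⟩ : ∃ z, IsOneCentre hF M z ∧ ∀ l, z l ≠ 0 := by
    by_contra hc
    push Not at hc
    have hsmall : ∀ ν : F, ν ^ (q + 1) = 1 → (Finset.univ.filter fun l =>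
        ((g : Mat) *ᵥ (Pi.single i₁ 1 + ν • Pi.single j₁ 1)) l ≠ 0).card ≤ 2 := fun ν hν => by
      have h1 := oneCentre_conj hF hMK hg (hbase ν hν)
      obtain ⟨l, hl⟩ := hc _ h1
      exact oneCentre_small hF hspread h1 hl
    obtain ⟨a, ha, ha1, -⟩ := exists_norm_one_ne hF
    obtain ⟨l, hl, hl'⟩ : ∃ l, l ∈ (Finset.univ : Finset (Fin n)) ∧ l ∉
        ((Finset.univ.filter fun l => ((g : Mat) *ᵥ (Pi.single i₁ 1 + (1 : F) • Pi.single j₁ 1)) l ≠ 0) ∪
          Finset.univ.filter fun l => ((g : Mat) *ᵥ (Pi.single i₁ 1 + a • Pi.single j₁ 1)) l ≠ 0) ∪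
        Finset.univ.filter fun l => ((g : Mat) *ᵥ Pi.single j₁ 1) l = 0 := by
      refine Finset.exists_mem_notMem_of_card_lt_card ?_
      have h3 : (Finset.univ.filter fun l => ((g : Mat) *ᵥ Pi.single j₁ 1) l = 0).card ≤ 1 :=
        Finset.card_le_one.mpr fun b hb b' hb' => one_zero_col_low hF hMK hdiag hspread (by omega) hg hgm
          (Finset.mem_filter.mp hb).2 (Finset.mem_filter.mp hb').2
      refine lt_of_le_of_lt ((Finset.card_union_le _ _).trans (Nat.add_le_add ((Finset.card_union_le _ _).trans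
        (Nat.add_le_add (hsmall 1 (one_pow _)) (hsmall a ha))) h3)) (by simp; omega)
    simp only [Finset.mem_union, Finset.mem_filter, Finset.mem_univ, true_and, not_or, not_not,
      Matrix.mulVec_add, Matrix.mulVec_smul, Pi.add_apply, Pi.smul_apply, smul_eq_mul] at hl'
    have : (a - 1) * ((g : Mat) *ᵥ Pi.single j₁ 1) l = 0 := by linear_combination hl'.1.2 - hl'.1.1
    exact hl'.2 ((mul_eq_zero.mp this).resolve_left (sub_ne_zero.mpr ha1))
  haveI := Fintype.ofFinite (NOne F q)
  let d : Fin n := ⟨0, by omega⟩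
  obtain ⟨δ, hδ, hδp, h0, hwt⟩ := exists_killing_ten hF hn g z hzf d
    (fun l l' hl hl' => one_zero_row_low hF hMK hdiag hspread (by omega) hg hgm hl hl')
  have h1 : IsOneCentre hF M (δ * z) := by
    convert oneCentre_conj hF hMK (hdiag δ hδ hδp) hz using 1
    funext l
    simp [guDiag, Matrix.mulVec_diagonal]
  have := oneCentre_small hF hspread (oneCentre_conj hF hMK hg h1) h0
  omega

/-- A mixed homology axis yields all centres of some coordinate plane. -/
theorem exists_plane_low (hq : 3 ≤ q) (hMK : M ≤ G₁) (hdiag : HasDiag q M) :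
    ∀ (w : ℕ) (c : Fin n) (u : Fin n → F), InO q M c u → ¬ IsAxis u →
      (Finset.univ.filter fun l => u l ≠ 0).card ≤ w → ∃ i j : Fin n, i ≠ j ∧ ∀ a b : F,
        a ^ (q + 1) + b ^ (q + 1) = 0 →
          (a • Pi.single i 1 + b • Pi.single j 1 : Fin n → F) ∈ Herm.centres (Herm.isUnitary_std (n := n) hF) M := by
  intro w
  induction w with
  | zero =>
    intro c u _ hax hw
    refine absurd (fun i j hi _ => absurd hw (Nat.not_le.mpr (Finset.card_pos.mpr
      ⟨i, Finset.mem_filter.mpr ⟨Finset.mem_univ _, hi⟩⟩))) hax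
  | succ w ih =>
    intro c u hu hax hw
    -- make some entry have norm different from one
    obtain ⟨u, hu, hax, hw, j, hj, hN⟩ : ∃ v, InO q M c v ∧ ¬ IsAxis v ∧
        (Finset.univ.filter fun l => v l ≠ 0).card ≤ w + 1 ∧ ∃ j, v j ≠ 0 ∧ v j ^ (q + 1) ≠ 1 := by
      by_cases hc : ∃ j, u j ≠ 0 ∧ u j ^ (q + 1) ≠ 1
      · exact ⟨u, hu, hax, hw, hc⟩
      push Not at hc
      unfold IsAxis at hax
      push Not at hax
      obtain ⟨i, j, hi, hj, hij⟩ := hax
      obtain ⟨a, ha, ha1, haN⟩ : ∃ a : F, a ^ (q + 1) = 1 ∧ a ≠ 1 ∧ (a - 1) ^ (q + 1) ≠ 1 := by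
        by_contra hall
        push Not at hall
        have key : ∀ a ∈ normOne q F, a ≠ 1 → a * a - a + 1 = 0 := fun a ha ha1 => by
          rw [mem_normOne] at ha
          have h1 := hall a ha ha1
          have h2 := norm_one_conj hF ha
          rw [pow_succ', ← conjQ_apply hF, map_sub, map_one, conjQ_apply hF] at h1
          linear_combination (a - 1) * h2 - a * h1
        obtain ⟨a₀, ha₀, ha₀1, -⟩ := exists_norm_one_ne hF
        obtain ⟨b, hb, hbn⟩ := Finset.exists_mem_notMem_of_card_lt_card (s := ({1, a₀, 1 - a₀} : Finset F))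
          (t := normOne q F) (lt_of_le_of_lt Finset.card_le_three (by rw [card_normOne hF]; omega))
        simp only [Finset.mem_insert, Finset.mem_singleton, not_or] at hbn
        have e : (b - a₀) * (b - (1 - a₀)) = 0 := by
          linear_combination key b hb hbn.1 - key a₀ (mem_normOne.mpr ha₀) ha₀1
        rcases mul_eq_zero.mp e with h1 | h1
        · exact hbn.2.1 (sub_eq_zero.mp h1)
        · exact hbn.2.2 (sub_eq_zero.mp h1)
      have huc := hu.2.1
      have hjc : j ≠ c := fun e => hj (e ▸ huc)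
      obtain ⟨m, hm, hmx⟩ := hu.2.2 a ha
      have hmc : (m : Mat) *ᵥ Pi.single c 1 = a ^ q • Pi.single c 1 := by
        rw [hmx, hermForm_single_left, huc, zero_pow (by omega), Pi.single_eq_same]
        module
      have hnew := inO_conj hF hMK (inO_single hF hdiag hjc) hm hmc
      have hval : ∀ l, ((m : Mat) *ᵥ Pi.single j 1) l =
          (if l = j then 1 else 0) + (a - 1) * u j ^ q * u l := fun l => by
        rw [hmx, hermForm_single_left, Pi.single_eq_of_ne hjc.symm]
        simp [Pi.single_apply]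
      have hjj : u j * u j ^ q = 1 := norm_one_conj hF (hc j hj)
      have hvj : ((m : Mat) *ᵥ Pi.single j 1) j = a := by
        rw [hval, if_pos rfl]; linear_combination (a - 1) * hjj
      have hvi : ((m : Mat) *ᵥ Pi.single j 1) i = (a - 1) * u j ^ q * u i := by rw [hval, if_neg hij]; ring
      have hvi0 : ((m : Mat) *ᵥ Pi.single j 1) i ≠ 0 := by
        rw [hvi]; exact mul_ne_zero (mul_ne_zero (sub_ne_zero.mpr ha1) (pow_ne_zero q hj)) hi
      refine ⟨_, hnew, fun hh => hij (hh i j hvi0 (by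
        rw [hvj]; intro e; rw [e, zero_pow (by omega)] at ha; exact zero_ne_one ha)), le_trans (Finset.card_le_card
        fun l hl => ?_) hw, i, hvi0, ?_⟩
      · rw [Finset.mem_filter] at hl ⊢
        refine ⟨hl.1, fun h0 => hl.2 ?_⟩
        have : l ≠ j := fun e => hj (e ▸ h0)
        rw [hval, if_neg this, h0, mul_zero, add_zero]
      · rw [hvi, mul_pow, mul_pow, hc i hi, ← pow_mul, mul_comm q, pow_mul, hc j hj, one_pow, mul_one, mul_one]
        exact haN
    obtain ⟨γ, e', hp, hγ0, hl, he'j, he', htop⟩ := inO_split hF hMK hdiag hu hj hN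
    by_cases hax' : IsAxis e'
    · have he'0 : e' ≠ 0 := fun h0 => one_ne_zero (α := F) (by rw [← hp.snd, h0, hermForm_zero_left hF])
      obtain ⟨l, κ, hκ, hlκ⟩ := exists_axis hax' he'0
      have hlj : j ≠ l := fun e => by simp [hlκ, e, hκ] at he'j
      refine ⟨j, l, hlj, fun a b hab => ?_⟩
      have hκκ : κ * κ ^ q = 1 := by
        have := hp.snd
        rw [hlκ, hermForm_smul_left hF, hermForm_smul_right hF, herm_single_right hF, Pi.single_eq_same,
          mul_one] at this
        exact this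
      have h1 := centres_plane hF hp htop (y := ![a, b * κ ^ q]) (by
        rw [hermForm_two]
        have hn : κ ^ (q + 1) = 1 := by rw [pow_succ', hκκ]
        have hn' := pow_q_pow_q hF κ
        simp only [Matrix.cons_val_zero, Matrix.cons_val_one, mul_pow, hn']
        rw [← hab, pow_succ', pow_succ']
        linear_combination (b * b ^ q) * hκκ)
      convert h1 using 1
      simp [plane, hlκ, smul_smul, mul_assoc, mul_comm (κ ^ q) κ, hκκ]
    · refine ih c e' he' hax' ?_
      have hsub : (Finset.univ.filter fun l => e' l ≠ 0) ⊆ (Finset.univ.filter fun l => u l ≠ 0).erase j := by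
        intro l hl'
        rw [Finset.mem_filter] at hl'
        have hne : l ≠ j := fun e => hl'.2 (e ▸ he'j)
        rw [Finset.mem_erase, Finset.mem_filter]
        exact ⟨hne, Finset.mem_univ _, by rw [← hl l hne]; exact mul_ne_zero hγ0 hl'.2⟩
      have h1 := Finset.card_le_card hsub
      rw [Finset.card_erase_of_mem (show j ∈ Finset.univ.filter (fun l => u l ≠ 0) from
        Finset.mem_filter.mpr ⟨Finset.mem_univ _, hj⟩)] at h1
      omega

/-- For `q > 2` an overgroup of the monomial group with a mixed element is `SU`. -/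
theorem su_le_of_monomial_low (hn : 10 ≤ n) (hq : 3 ≤ q) (hMK : M ≤ G₁) (hmono : ∀ m ∈ G₁, IsMonom m → m ∈ M)
    (hdiag : HasDiag q M) {g : GL (Fin n) F} (hg : g ∈ M) (hgm : ¬ IsMonom g) : G₁ ≤ M := by
  have hf := Herm.isUnitary_std (n := n) hF
  let l₀ : Fin n := ⟨0, by omega⟩
  have hperm : ∀ π : Equiv.Perm (Fin n), ∃ m ∈ M, ∃ s : Fin n → F, (∀ l, s l ^ (q + 1) = 1) ∧
      ∀ v : Fin n → F, ((m : GL (Fin n) F) : Mat) *ᵥ v = fun l => s l * v (π.symm l) := fun π => by
    obtain ⟨m, hm, s, hs, hmv⟩ := exists_mono hF π l₀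
    exact ⟨m, hmono m hm (isMonom_of_mono hmv), s, hs, hmv⟩
  have hs0 : ∀ {a : F}, a ^ (q + 1) = 1 → a ≠ 0 := fun ha h0 => by
    rw [h0, zero_pow (by omega)] at ha; exact zero_ne_one ha
  by_cases hmix : ∃ y ∈ M, ∃ (c a : Fin n) (ρ : F), ((y : GL (Fin n) F) : Mat) *ᵥ Pi.single c 1 =
      ρ • Pi.single c 1 ∧ ¬ IsAxis ((y : Mat) *ᵥ Pi.single a 1)
  · obtain ⟨y, hy, c, a, ρ, hyc, hya⟩ := hmix
    have hac : a ≠ c := fun e => hya (by rw [e, hyc]; exact isAxis_smul_single ρ c)
    obtain ⟨i, j, hij, hW⟩ := exists_plane_low hF hq hMK hdiag _ c _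
      (inO_conj hF hMK (inO_single hF hdiag hac) hy hyc) hya le_rfl
    refine su_le_of_weight_two hF hq (by omega) hMK hdiag fun i' j' a' b' hij' hab => ?_
    let π : Equiv.Perm (Fin n) := Equiv.swap (Equiv.swap i i' j) j' * Equiv.swap i i'
    have hπi : π i = i' := by
      simp only [π, Equiv.Perm.mul_apply, Equiv.swap_apply_left]
      refine Equiv.swap_apply_of_ne_of_ne (fun e => hij ?_) hij'
      have := congrArg (Equiv.swap i i') e
      rwa [Equiv.swap_apply_self, Equiv.swap_apply_right] at this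
    have hπj : π j = j' := by simp [π]
    obtain ⟨m, hm, s, hs, hmv⟩ := hperm π
    have h1 := Herm.centres_conj hf (fun g hg => (hMK hg).1) hm (hW (a' / s i') (b' / s j') (by
      rw [div_pow, div_pow, hs, hs, div_one, div_one]; exact hab))
    convert h1 using 1
    rw [hmv]
    funext l
    have hli : π.symm l = i ↔ l = i' := by rw [Equiv.symm_apply_eq, hπi]
    have hlj : π.symm l = j ↔ l = j' := by rw [Equiv.symm_apply_eq, hπj]
    by_cases h2 : l = i'
    · subst h2
      simp [hli.mpr rfl, hij, hij', mul_div_cancel₀ _ (hs0 (hs l))]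
    by_cases h3 : l = j'
    · subst h3
      simp [hlj.mpr rfl, hij.symm, h2, mul_div_cancel₀ _ (hs0 (hs l))]
    simp [h2, h3, mt hli.mp h2, mt hlj.mp h3]
  exfalso
  push Not at hmix
  have hspread : Spreading M := fun m hm c hc a => by
    obtain ⟨l, ρ, -, hl⟩ := exists_axis hc (gl_single_ne_zero m c)
    obtain ⟨P, hP, s, hs, hPv⟩ := hperm (Equiv.swap c l)
    have h1 := hmix (P * m) (M.mul_mem hP hm) c a (s c * ρ) (by
      rw [Units.val_mul, ← Matrix.mulVec_mulVec, hl, hPv]
      funext o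
      by_cases ho : o = c
      · subst ho; simp
      · have : (Equiv.swap c l) o ≠ l := fun e => ho (by
          have := congrArg (Equiv.swap c l) e
          rwa [Equiv.swap_apply_self, Equiv.swap_apply_right] at this)
        simp [ho, this])
    intro i j hi hj
    refine (Equiv.swap c l).injective (h1 _ _ ?_ ?_) <;>
      rw [Units.val_mul, ← Matrix.mulVec_mulVec, hPv] <;>
      simp only [Equiv.symm_swap, Equiv.swap_apply_self]
    · exact mul_ne_zero (hs0 (hs _)) hi
    · exact mul_ne_zero (hs0 (hs _)) hj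
  by_cases h2 : (2 : F) = 0
  · exact not_spreading_even_low hF h2 hn hq hMK hdiag hmono hspread hg hgm
  · exact not_spreading_odd_low hF h2 hn hq hMK hdiag hmono hspread hg hgm

/-- The stabiliser of a decomposition into lines is maximal. -/
theorem monomial_std_maximal_low (hn : 10 ≤ n) (ht : 2 ≤ t) (hk : k = 1) (idx : Fin t × Fin k ≃ Fin n) :
    Cfsg.Geo.IsMaximalIn G₁ (Cfsg.Geo.decompositionStabilizer (stdDec F idx) ⊓ G₁) := by
  subst hk
  refine isMaximalIn_of inf_le_right (std_proper hF (by omega) ht one_pos idx) fun M hHM hMK g hg hgH => ?_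
  have hdiag := hasDiag_of_le hHM
  let b : Fin t → Fin n := fun i => idx (i, 0)
  have hb : ∀ l, b (idx.symm l).1 = l := fun l => by
    simp only [b]
    rw [show ((idx.symm l).1, (0 : Fin 1)) = idx.symm l from Prod.ext rfl (Subsingleton.elim _ _),
      Equiv.apply_symm_apply]
  have hstab : ∀ m ∈ G₁, IsMonom m → m ∈ Cfsg.Geo.decompositionStabilizer (stdDec F idx) := by
    intro m hm hmon
    choose π a ha hπ using fun l => exists_axis (hmon l) (gl_single_ne_zero m l)
    have hinj : Function.Injective π := fun l l' he => by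
      by_contra hne
      have h1 : (m : Mat) *ᵥ (a l' • Pi.single l 1 - a l • Pi.single l' 1) = (m : Mat) *ᵥ 0 := by
        rw [Matrix.mulVec_sub, Matrix.mulVec_smul, Matrix.mulVec_smul, hπ, hπ, he, Matrix.mulVec_zero, smul_smul,
          smul_smul, mul_comm, sub_self]
      simpa [hne, ha l'] using congrFun (gl_mulVec_injective m h1) l
    let p : Equiv.Perm (Fin n) := Equiv.ofBijective π (Finite.injective_iff_bijective.mp hinj)
    obtain ⟨m₀, -, s, hs, hm₀⟩ := exists_mono hF p ⟨0, by omega⟩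
    have hs0 : ∀ l, s l ≠ 0 := fun l h0 => by
      have := hs l; rw [h0, zero_pow (by omega)] at this; exact zero_ne_one this
    let e : Fin t ≃ Fin n := (Equiv.prodUnique (Fin t) (Fin 1)).symm.trans idx
    have h0 : m₀ ∈ Cfsg.Geo.decompositionStabilizer (stdDec F idx) := by
      refine mono_stab idx p ((e.trans p).trans e.symm) (fun l => ?_) hs0 hm₀
      have : e (idx.symm l).1 = l := hb l
      simp only [Equiv.trans_apply, this]
      rfl
    have h1 : m₀⁻¹ * m ∈ Cfsg.Geo.decompositionStabilizer (stdDec F idx) := by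
      refine stab_of_members fun i w hw => ?_
      have hw' : w = w (b i) • Pi.single (b i) 1 := by
        funext l
        by_cases hl : l = b i
        · subst hl; simp
        · rw [hw l (fun e => hl (by rw [← hb l, e]))]; simp [hl]
      rw [hw', Units.val_mul, ← Matrix.mulVec_mulVec, Matrix.mulVec_smul, hπ]
      have h2 : (m₀ : Mat) *ᵥ Pi.single (b i) 1 = s (π (b i)) • Pi.single (π (b i)) 1 := by
        rw [hm₀]
        funext l
        by_cases hl : l = π (b i)
        · subst hl; simp [show p.symm (π (b i)) = b i from p.symm_apply_apply _]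
        · have : p.symm l ≠ b i := fun e => hl (by rw [← e]; exact (p.apply_symm_apply l).symm)
          simp [hl, this]
      have h3 : ((m₀⁻¹ : GL (Fin n) F) : Mat) *ᵥ Pi.single (π (b i)) 1 = (s (π (b i)))⁻¹ • Pi.single (b i) 1 := by
        have := gl_inv_mulVec m₀ (Pi.single (b i) 1)
        rw [h2, Matrix.mulVec_smul] at this
        rw [← this, smul_smul, inv_mul_cancel₀ (hs0 _), one_smul]
      rw [Matrix.mulVec_smul, Matrix.mulVec_smul, h3]
      refine Submodule.smul_mem _ _ (Submodule.smul_mem _ _ (Submodule.smul_mem _ _ ?_))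
      have := single_mem_stdDec (F := F) idx (b i) 1
      simpa [b] using this
    simpa using Subgroup.mul_mem _ h0 h1
  have hmono : ∀ m ∈ G₁, IsMonom m → m ∈ M := fun m hm hmon => hHM ⟨hstab m hm hmon, hm⟩
  have hgm : ¬ IsMonom g := fun hh => hgH ⟨hstab g (hMK hg) hh, hMK hg⟩
  by_cases hq : q = 2
  · unfold IsMonom IsAxis at hgm
    push Not at hgm
    obtain ⟨l, i, j, hi, hj, hij⟩ := hgm
    subst hq
    exact su_le_of_weight_four hF (by omega) hMK hdiag (weight_two_centres hF rfl hMK hmono) hg (i₀ := l)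
      (Finset.one_lt_card.mpr ⟨i, Finset.mem_filter.mpr ⟨Finset.mem_univ _, hi⟩,
        j, Finset.mem_filter.mpr ⟨Finset.mem_univ _, hj⟩, hij⟩)
  · exact su_le_of_monomial_low hF hn (by have := two_le_q hF; omega) hMK hmono hdiag hg hgm

/-- Stabilisers of non-degenerate orthogonal decompositions are maximal. -/
theorem decomposition_maximal_low (hn : 10 ≤ n) {D : Fin t → Submodule F (Fin n → F)}
    (hD : Cfsg.Geo.IsNondegenerateMDecomposition (Cfsg.hermForm n F q) k D) (hex : ¬ (k = 2 ∧ q = 2)) :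
    Cfsg.Geo.IsMaximalIn G₁ (Cfsg.Geo.decompositionStabilizer D ⊓ G₁) := by
  refine maximal_of_std hF hD fun idx => ?_
  rcases (show k = 1 ∨ 2 ≤ k by have := hD.decomp.pos; omega) with hk | hk
  · exact monomial_std_maximal_low hF hn hD.decomp.two_le hk idx
  · exact wreath_std_maximal hF (by omega) hD.decomp.two_le hk hex idx

end Cfsg.Agent.H60.SULow
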